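import Mathlib
import Cfsg.Agent.Max.Basic
import Cfsg.Agent.Classical.DicksonSL

/-!
# Two tools for subfield subgroups: Dickson's lemma for a pair of root subgroups, and the
dihedral-group argument in characteristic two
-/

set_option autoImplicit false

namespace Cfsg.Agent.Max

open Module Matrix Classical.P1 Classical.SL2Basic Classical.P1Ident Classical.Dickson
  Classical.DicksonSL
open scoped MatrixGroups Pointwise

variable {F : Type*} [Field F]

theorem a5_pow (g : alternatingGroup (Fin 5)) : g ^ 2 = 1 ∨ g ^ 3 = 1 ∨ g ^ 5 = 1 := by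
  have : ∀ g : Equiv.Perm (Fin 5), Equiv.Perm.sign g = 1 → g ^ 2 = 1 ∨ g ^ 3 = 1 ∨ g ^ 5 = 1 := by
    decide +kernel
  simpa only [Subtype.ext_iff, Subgroup.coe_pow, Subgroup.coe_one] using this g.1 g.2

theorem dk_sl2 [Finite F] {p : ℕ} [hp : Fact p.Prime] [CharP F p] (h2 : p ≠ 2)
    (Γ : Subgroup SL(2, F)) (K : Subfield F) (hK : ∀ s, upper s ∈ Γ → s ∈ K)
    (h1 : upper 1 ∈ Γ) {l : F} (hl : lower l ∈ Γ) : l ∈ K ∨ (p = 3 ∧ l ^ 9 = l) := by
  have h2' : (2 : F) ≠ 0 := fun h => h2 ((Nat.prime_dvd_prime_iff_eq hp.out Nat.prime_two).mp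
    ((CharP.cast_eq_zero_iff F p 2).mp (by exact_mod_cast h)))
  have hu : SpecialLinearGroup.toPGL (upper (1 : F)) ∈ Γ.map SpecialLinearGroup.toPGL :=
    ⟨_, h1, rfl⟩
  have hw : SpecialLinearGroup.toPGL (lower l) ∈ Γ.map SpecialLinearGroup.toPGL := ⟨_, hl, rfl⟩
  have hp : p ∣ Nat.card (Γ.map SpecialLinearGroup.toPGL) := by
    rw [← orderOf_eq_prime (x := SpecialLinearGroup.toPGL (upper (1 : F))) (p := p)
      (by rw [← map_pow, upper_pow_char, map_one]) fun h => by
        simpa [upper] using (mk_eq_one_iff.mp h).1]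
    exact Subgroup.orderOf_dvd_natCard _ hu
  rcases dickson_wild _ hp with ⟨x, hx⟩ | h | ⟨h3, ⟨e⟩⟩ | ⟨L, c, -, -, hL⟩
  · have h3 : SpecialLinearGroup.toGL (upper (1 : F)) • x = x := (mk_smul _ x).symm.trans (hx _ hu)
    have h4 : SpecialLinearGroup.toGL (lower l) • x = x := (mk_smul _ x).symm.trans (hx _ hw)
    rcases inf_or_pt x with rfl | ⟨z, rfl⟩
    · left
      have : l = 0 := by simpa [lower] using (smul_inf_eq_inf_iff _).mp h4
      exact this ▸ zero_mem K
    · simpa [upper] using (smul_pt_eq_pt_iff _ _ _).mp h3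
  · exact absurd h.1 h2
  · refine Or.inr ⟨h3, ?_⟩
    subst h3
    have h3 : (3 : F) = 0 := by exact_mod_cast CharP.cast_eq_zero F 3
    have key : ∀ k : ℕ, e ⟨_, mul_mem hu hw⟩ ^ k = 1 → ((upper 1 * lower l) ^ k : SL(2, F)) 0 1 = 0 :=
      fun k hk => by
        rw [← map_pow, e.map_eq_one_iff, Subtype.ext_iff, Subgroup.coe_pow, Subgroup.coe_mk,
          ← map_mul, ← map_pow] at hk
        exact (mk_eq_one_iff.mp hk).1
    rcases a5_pow (e ⟨_, mul_mem hu hw⟩) with h | h | h
    · have := key _ h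
      simp only [pow_succ, pow_zero, one_mul, Classical.SL2Basic.mul_apply, upper, lower, mkSL_coe] at this
      simp at this
      have h4 : l = 1 := by linear_combination this - h3
      simp [h4]
    · have := key _ h
      simp only [pow_succ, pow_zero, one_mul, Classical.SL2Basic.mul_apply, upper, lower, mkSL_coe] at this
      simp at this
      have h4 : l ^ 2 = - l := by linear_combination this - (l + 1) * h3
      linear_combination (l ^ 7 - l ^ 6 + l ^ 5 - l ^ 4 + l ^ 3 - l ^ 2 + l - 1) * h4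
    · have := key _ h
      simp only [pow_succ, pow_zero, one_mul, Classical.SL2Basic.mul_apply, upper, lower, mkSL_coe] at this
      simp at this
      have h4 : (l - 1) ^ 4 = -1 := by
        linear_combination this - (4 * l ^ 3 + 5 * l ^ 2 + 8 * l + 1) * h3
      have h5 : (l - 1) ^ 9 = l - 1 := by
        calc (l - 1) ^ 9 = ((l - 1) ^ 4) ^ 2 * (l - 1) := by ring
          _ = _ := by rw [h4]; ring
      have h6 : (l - 1) ^ 3 ^ 2 = l ^ 3 ^ 2 - 1 ^ 3 ^ 2 := sub_pow_char_pow _ _ _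
      norm_num at h6
      linear_combination h5 - h6
  · left
    rw [← map_toPGL_conjSL] at hL
    have h3 := range_map_le_of_subPSL_le p (H := Γ.map (conjSL c).toMonoidHom) (L := L)
      (by rcases hL with h | h; exacts [h ▸ subPSL_le_subPGL L, h.ge])
    have h4 : ∀ g ∈ Γ, tr g = 2 → ∀ i j, conjSL c g i j ∈ L := fun g hg ht => by
      have : SpecialLinearGroup.toPGL (conjSL c g) ∈ subPGL L := by
        have : SpecialLinearGroup.toPGL (conjSL c g) ∈
          (Γ.map (conjSL c).toMonoidHom).map SpecialLinearGroup.toPGL := ⟨_, ⟨g, hg, rfl⟩, rfl⟩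
        rcases hL with h | h
        exacts [h ▸ this, subPSL_le_subPGL L (h ▸ this)]
      obtain ⟨m, hm⟩ := this
      obtain ⟨m, rfl⟩ := ProjGenLinGroup.mk_surjective m
      obtain ⟨u, hu⟩ := mk_eq_mk_iff_smul.mp hm
      have h5 : ∀ i j, conjSL c g i j = u * (m i j : L) := fun i j => congrFun (congrFun hu i) j
      have h6 : u * ((m 0 0 + m 1 1 : L) : F) = 2 := by
        have : (conjSL c g).1.trace = g.1.trace :=
          Matrix.trace_units_conj c _
        rw [Matrix.trace_fin_two, Matrix.trace_fin_two, h5, h5] at this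
        rw [← ht, tr, ← this]
        push_cast
        ring
      have h7 : u ∈ L := by
        have h8 : ((m 0 0 + m 1 1 : L) : F) ≠ 0 := fun h => h2' (by rw [← h6, h, mul_zero])
        rw [eq_div_of_mul_eq h8 h6]
        exact div_mem (by exact_mod_cast natCast_mem L 2) (m 0 0 + m 1 1).2
      exact fun i j => h5 i j ▸ mul_mem h7 (m i j).2
    have h5 := h4 _ h1 (by simp [tr, upper]; norm_num)
    have h6 := h4 _ hl (by simp [tr, lower]; norm_num)
    have h7 : l ∈ L := by
      have : (conjSL c (upper 1 * lower l)).1.trace =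
        (upper 1 * lower l : SL(2, F)).1.trace := Matrix.trace_units_conj c _
      rw [map_mul, Matrix.trace_fin_two, Matrix.trace_fin_two] at this
      simp only [Classical.SL2Basic.mul_apply] at this
      have h8 : l = _ - 2 := eq_sub_of_add_eq (Eq.trans (by
        simp [upper, lower]
        ring) this.symm)
      rw [h8]
      exact sub_mem (add_mem (add_mem (mul_mem (h5 _ _) (h6 _ _)) (mul_mem (h5 _ _) (h6 _ _)))
        (add_mem (mul_mem (h5 _ _) (h6 _ _)) (mul_mem (h5 _ _) (h6 _ _))))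
        (by exact_mod_cast natCast_mem L 2)
    have h8 : (conjSL c (upper l)).1 = 1 + l • ((conjSL c (upper 1)).1 - 1) := by
      have : (upper l).1 = 1 + l • ((upper (1 : F)).1 - 1) := by
        ext i j
        fin_cases i <;> fin_cases j <;> simp [upper]
      change c.val * _ * (c⁻¹).val = 1 + l • (c.val * _ * (c⁻¹).val - 1)
      rw [this]
      simp [mul_add, add_mul, mul_sub, sub_mul]
    have h9 : ∀ i j, conjSL c (upper l) i j ∈ L := fun i j => by
      have := congrFun (congrFun h8 i) j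
      change _ = _ at this
      rw [show conjSL c (upper l) i j = _ from this]
      have h1 : (1 : Matrix (Fin 2) (Fin 2) F) i j ∈ L := by
        rw [Matrix.one_apply]
        split_ifs
        exacts [one_mem L, zero_mem L]
      exact add_mem h1 (mul_mem h7 (sub_mem (h5 i j) h1))
    obtain ⟨g, hg, e⟩ := h3 ⟨⟨Matrix.of fun i j => ⟨_, h9 i j⟩, L.subtype.injective (by
      rw [RingHom.map_det, map_one]
      exact (conjSL c (upper l)).2)⟩, rfl⟩
    exact hK l ((conjSL c).injective (e.trans (Subtype.ext rfl)) ▸ hg)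

/-- The elements of `F` of degree at most two over the subfield `K`. -/
noncomputable def K2 [Finite F] (K : Subfield F) : Subalgebra K F :=
  haveI := Fintype.ofFinite K
  AlgHom.equalizer (FiniteField.frobeniusAlgHom K F ^ 2) 1

theorem mem_K2 [Finite F] {K : Subfield F} {x : F} : x ∈ K2 K ↔ x ^ Nat.card K ^ 2 = x := by
  simp [K2, pow_two, ← pow_mul, @Fintype.card_eq_nat_card K (_)]

theorem K2_inv [Finite F] {K : Subfield F} {x : F} (h : x ∈ K2 K) : x⁻¹ ∈ K2 K := by
  rw [mem_K2] at h ⊢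
  rw [inv_pow, h]

theorem mem_K2_of_mem [Finite F] {K : Subfield F} {x : F} (h : x ∈ K) : x ∈ K2 K :=
  (K2 K).algebraMap_mem ⟨x, h⟩

theorem card_le_of_pow [Finite F] {n : ℕ} (hn : 1 < n) (S : Set F) (h : ∀ x ∈ S, x ^ n = x) :
    Nat.card S ≤ n := by
  classical
  have := Fintype.ofFinite S
  have h0 := FiniteField.X_pow_card_sub_X_ne_zero F hn
  rw [Nat.card_eq_fintype_card, ← Set.toFinset_card]
  refine le_trans ?_ ((Multiset.toFinset_card_le _).trans ((Polynomial.card_roots' _).trans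
    (FiniteField.X_pow_card_sub_X_natDegree_eq F hn).le))
  exact Finset.card_le_card fun x hx => by simp [h0, h x (by simpa using hx)]

theorem finrank_K2 [Finite F] (K : Subfield F) : finrank K (Subalgebra.toSubmodule (K2 K)) ≤ 2 := by
  have h1 : 1 < Nat.card K := Finite.one_lt_card
  have := card_le_of_pow (one_lt_pow₀ h1 two_ne_zero) (K2 K : Set F) fun x => mem_K2.mp
  refine (Nat.pow_le_pow_iff_right h1).mp (le_trans (le_of_eq ?_) this)
  exact (Module.natCard_eq_pow_finrank (K := K) (V := Subalgebra.toSubmodule (K2 K))).symm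

theorem mem_iff_pow [Finite F] {K : Subfield F} {x : F} : x ∈ K ↔ x ^ Nat.card K = x := by
  have := Fintype.ofFinite K
  have key : ∀ x ∈ K, x ^ Nat.card K = x := fun x hx => by
    simpa using congrArg Subtype.val (FiniteField.pow_card (⟨x, hx⟩ : K))
  refine ⟨key x, fun h => by_contra fun hx => ?_⟩
  have := card_le_of_pow (Finite.one_lt_card (α := K)) (insert x (K : Set F)) (by
    rintro y (rfl | hy)
    exacts [h, key y hy])
  rw [Nat.card_coe_set_eq, Set.ncard_insert_of_notMem hx, ← Nat.card_coe_set_eq] at this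
  exact Nat.not_succ_le_self _ this

theorem mem_of_sq_mem [Finite F] (h2 : (2 : F) = 0) {K : Subfield F} {x : F} (h : x ^ 2 ∈ K) :
    x ∈ K := by
  rw [mem_iff_pow] at h ⊢
  rw [← sub_eq_zero, ← pow_eq_zero_iff two_ne_zero]
  rw [← pow_mul, mul_comm, pow_mul] at h
  linear_combination h + (x ^ 2 - x ^ Nat.card K * x) * h2

theorem subalgebra_eq_top [Finite F] {K : Subfield F} {r : ℕ} (hr : r.Prime)
    (h : Nat.card F = Nat.card K ^ r) (L : Subalgebra K F) {s : F} (hs : s ∈ L) (hs' : s ∉ K) :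
    L = ⊤ := by
  have h1 : finrank K F = r := Nat.pow_right_injective (Finite.one_lt_card (α := K))
    ((Module.natCard_eq_pow_finrank (K := K) (V := F)).symm.trans h)
  have := Subalgebra.isSimpleOrder_of_finrank_prime K F (h1 ▸ hr)
  refine (eq_bot_or_eq_top L).resolve_left fun e => hs' ?_
  obtain ⟨k, rfl⟩ := Algebra.mem_bot.mp (e ▸ hs)
  exact k.2

variable {V : Type*} [AddCommGroup V] [Module F V] {M : Subgroup (V ≃ₗ[F] V)}

/-- Dickson's lemma for a pair of opposite root subgroups. -/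
theorem dk [Finite F] (h2 : (2 : F) ≠ 0) {K : Subfield F} {N N' : V →ₗ[F] V} {l : F}
    (e1 : ∀ x, N (N x) = 0) (e2 : ∀ x, N' (N' x) = 0) (e3 : ∀ x, N (N' (N x)) = l • N x)
    (e4 : ∀ x, N' (N (N' x)) = l • N' x) (hK : ∀ s : F, R M (s • N) → s ∈ K) (h : R M N)
    (h' : R M N') : l ∈ K2 K := by
  by_cases hl : l = 0
  · exact hl ▸ zero_mem _
  obtain ⟨p, hp⟩ := CharP.exists F
  have : Fact p.Prime := ⟨CharP.char_is_prime F p⟩
  let S : Submonoid SL(2, F) :=
    { carrier := {A | R M (((A 0 0 - 1) * l⁻¹) • N ∘ₗ N' + A 0 1 • N + (A 1 0 * l⁻¹) • N' +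
        ((A 1 1 - 1) * l⁻¹) • N' ∘ₗ N)}
      one_mem' := R.zero.congr (by simp)
      mul_mem' := fun {A B} hA hB => (hA.mul hB).congr fun x => by
        simp only [Classical.SL2Basic.mul_apply, LinearMap.add_apply, LinearMap.smul_apply,
          LinearMap.comp_apply, map_add, map_smul, e1, e2, e3, e4, map_zero]
        match_scalars <;> field_simp <;> ring }
  let Γ : Subgroup SL(2, F) := { S with
    inv_mem' := fun {A} hA => by
      obtain ⟨n, hn⟩ := (isOfFinOrder_of_finite A).mem_powers_iff_mem_zpowers.mpr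
        (inv_mem (Subgroup.mem_zpowers A))
      exact hn ▸ S.pow_mem hA n }
  rcases dk_sl2 (p := p) (fun e => h2 (by exact_mod_cast e ▸ CharP.cast_eq_zero F p)) Γ K
    (fun s hs => hK s (R.congr hs (by simp [upper]))) (h.congr (by simp [upper])) (l := l)
    (h'.congr (by simp [lower, hl])) with h | ⟨rfl, h⟩
  · exact mem_K2_of_mem h
  · have := Fintype.ofFinite K
    have : CharP K 3 := (K.subtype.charP_iff_charP 3).2 inferInstance
    obtain ⟨n, -, hn⟩ := FiniteField.card K 3
    rw [mem_K2, Nat.card_eq_fintype_card, hn, ← pow_mul, mul_comm, pow_mul]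
    induction (n : ℕ) with
    | zero => simp
    | succ n ih => rw [pow_succ, pow_mul, ih]; exact h

/-- A strongly embedded subgroup has one class of involutions under fusion. -/
theorem se2 {G : Type*} [Group G] [Finite G] {M H : Subgroup G}
    (hS : ∀ g ∈ M, ∀ z ∈ M, z ∈ H → z ≠ 1 → z * z = 1 → g⁻¹ * z * g ∈ H → g ∈ H) {x y : G}
    (hx : x ∈ M) (hy : y ∈ M) (hx' : x ∈ H) (hy' : y ∈ H) (hx1 : x ≠ 1) (hy1 : y ≠ 1)
    (hx2 : x * x = 1) (hy2 : y * y = 1) (hxy : ∀ g ∈ M, g * x * g⁻¹ ≠ y) : M ≤ H := by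
  intro g hg
  have ht : g * x * g⁻¹ ∈ M := mul_mem (mul_mem hg hx) (inv_mem hg)
  have ht2 : g * x * g⁻¹ * (g * x * g⁻¹) = 1 := by
    rw [show g * x * g⁻¹ * (g * x * g⁻¹) = g * (x * x) * g⁻¹ by group, hx2]
    simp
  obtain ⟨t, hd⟩ : ∃ t, t = g * x * g⁻¹ := ⟨_, rfl⟩
  rw [← hd] at ht ht2
  have hyi : y⁻¹ = y := inv_eq_of_mul_eq_one_right hy2
  have hti : t⁻¹ = t := inv_eq_of_mul_eq_one_right ht2
  have hc : ∀ k : ℕ, y * (t * y) ^ k = ((t * y) ^ k)⁻¹ * y := fun k => by
    have : y * (t * y) * y⁻¹ = (t * y)⁻¹ := by rw [_root_.mul_inv_rev, hti, hyi, mul_assoc, mul_assoc, hy2]; simp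
    rw [← inv_pow, ← this, conj_pow]
    simp
  have hc' : ∀ k : ℕ, t * (t * y) ^ k = ((t * y) ^ k)⁻¹ * t := fun k => by
    have : t * (t * y) * t⁻¹ = (t * y)⁻¹ := by rw [_root_.mul_inv_rev, hti, hyi, ← mul_assoc, ht2]; simp
    rw [← inv_pow, ← this, conj_pow]
    simp
  have hpos := orderOf_pos (t * y)
  have hm : ∀ k : ℕ, (t * y) ^ k ∈ M := fun k => pow_mem (mul_mem ht hy) k
  rcases Nat.even_or_odd' (orderOf (t * y)) with ⟨k, hk | hk⟩
  · have h1 : (t * y) ^ k * (t * y) ^ k = 1 := by rw [← pow_add, ← two_mul, ← hk, pow_orderOf_eq_one]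
    have h2 : (t * y) ^ k ≠ 1 := pow_ne_one_of_lt_orderOf (by omega) (by omega)
    have h3 : ((t * y) ^ k)⁻¹ = (t * y) ^ k := inv_eq_of_mul_eq_one_right h1
    have h4 := hS _ (hm k) y hy hy' hy1 hy2 (by rwa [mul_assoc, hc, ← mul_assoc, h3, h1, one_mul])
    have h5 : g⁻¹ * (t * y) ^ k * g ∈ H := hS _ (mul_mem (mul_mem (inv_mem hg) (hm k)) hg) x hx
      hx' hx1 hx2 (by
        have : (g⁻¹ * (t * y) ^ k * g)⁻¹ * x * (g⁻¹ * (t * y) ^ k * g) =
          g⁻¹ * (((t * y) ^ k)⁻¹ * (t * (t * y) ^ k)) * g := by rw [hd]; group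
        rw [this, hc', ← mul_assoc _ _ t, h3, h1, hd]
        simpa [mul_assoc] using hx')
    exact hS g hg _ (hm k) h4 h2 h1 h5
  · refine absurd ?_ (hxy ((t * y) ^ k * g) (mul_mem (hm k) hg))
    have h1 : (t * y) ^ k * (t * y) ^ k * (t * y) = 1 := by
      rw [← pow_add, ← two_mul, ← pow_succ, ← hk, pow_orderOf_eq_one]
    have h2 : t * ((t * y) ^ k)⁻¹ = (t * y) ^ k * t := by
      have := congrArg (·⁻¹) (hc' k)
      simp only [_root_.mul_inv_rev, hti, inv_inv] at this
      rw [mul_inv_eq_iff_eq_mul, mul_assoc, ← this, mul_inv_cancel_left]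
    calc (t * y) ^ k * g * x * ((t * y) ^ k * g)⁻¹ = (t * y) ^ k * (t * ((t * y) ^ k)⁻¹) := by
          rw [hd]; group
      _ = (t * y) ^ k * (t * y) ^ k * (t * y) * y := by
          rw [h2, mul_assoc _ (t * y) y, mul_assoc t y, hy2, mul_one, mul_assoc]
      _ = y := by rw [h1, one_mul]

end Cfsg.Agent.Max
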