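import Mathlib
import Cfsg.Agent.Max.L2f

/-! Transfer between `SL₂(q)` and `PGL₂(q)`, and further tools. -/

set_option autoImplicit false
set_option backward.isDefEq.respectTransparency false

namespace Cfsg.Agent.Max.L2

open Matrix MulAction Cfsg.Agent.Classical.P1 Cfsg.Agent.Classical.P1Class
  Cfsg.Agent.Classical.SLBasic Cfsg.Agent.Classical.P1Ident Cfsg.Agent.Classical.Dickson
  Cfsg.Agent.Classical.DihRecog Cfsg.Agent.Classical.SmallRecog Cfsg.Agent.Classical.P1Inst
  Cfsg.Agent.Classical.Borel2 Cfsg.Agent.Classical.PSL2Basic Cfsg.Agent.Classical.AltHom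
  Cfsg.Agent.Classical.DicksonSL Cfsg.Agent.Classical.Congr
open scoped MatrixGroups Pointwise

theorem card_eq_map_mul {G G' : Type*} [Group G] [Group G'] (f : G →* G') (H : Subgroup G) :
    Nat.card H = Nat.card (H.map f) * Nat.card ↥(f.ker ⊓ H) := by
  rw [← Subgroup.relIndex_ker, Subgroup.relIndex, ← Subgroup.index_mul_card (f.ker.subgroupOf H),
    Nat.card_congr (Subgroup.subgroupOfEquivOfLe (inf_le_right : f.ker ⊓ H ≤ H)).symm.toEquiv,
    Subgroup.inf_subgroupOf_right]

theorem card_comap {G G' : Type*} [Group G] [Group G'] (f : G →* G') (X : Subgroup G') :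
    Nat.card (X.comap f) = Nat.card ↥(X ⊓ f.range) * Nat.card f.ker := by
  rw [card_eq_map_mul f, Subgroup.map_comap_eq, inf_comm,
    inf_eq_left.2 (Subgroup.ker_le_comap f X)]

variable {F : Type*} [Field F]

/-- The projection `SL₂(F) → PGL₂(F)`. -/
abbrev sP : SL(2, F) →* PGL(2, F) := SpecialLinearGroup.toPGL

theorem sP_mem (g : SL(2, F)) : sP g ∈ LL F := ⟨(g : PSL(2, F)), toP_mk g⟩

theorem exists_sP {g : PGL(2, F)} (hg : g ∈ LL F) : ∃ c : SL(2, F), sP c = g := by
  obtain ⟨x, rfl⟩ := hg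
  obtain ⟨c, rfl⟩ := QuotientGroup.mk_surjective x
  exact ⟨c, (toP_mk c).symm⟩

theorem range_sP : (sP (F := F)).range = LL F :=
  le_antisymm (by rintro _ ⟨g, rfl⟩; exact sP_mem g) fun _ hg => exists_sP hg

theorem sP_neg (g : SL(2, F)) : sP (-g) = sP g :=
  Classical.SL2Basic.toPGL_eq_iff.2 (Or.inr rfl)

variable [Finite F]

theorem card_ker_sP : Nat.card (sP (F := F)).ker = dd F := by
  have h1 := card_eq_map_mul (sP (F := F)) ⊤
  rw [← MonoidHom.range_eq_map, range_sP, inf_top_eq, Subgroup.card_top, card_SL_two, ← card_LL,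
    mul_comm] at h1
  exact (Nat.eq_of_mul_eq_mul_left Nat.card_pos h1).symm

theorem card_comap_sP (X : Subgroup PGL(2, F)) :
    Nat.card (X.comap sP) = dd F * Nat.card ↥(X ⊓ LL F) := by
  rw [card_comap, range_sP, card_ker_sP, mul_comm]

end Cfsg.Agent.Max.L2
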